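import Cfsg.Agent.H469.PiBS.Def

/-!
# The common part of `Hyp` (S3876) and `DB` (S4322, TEAM RV)

`Cls π A` : every π-subgroup of `S` lies in a Hall π-subgroup, the group `A` of automorphisms is transitive on the Hall
π-subgroups and their number is prime to the primes of `π`.
-/

set_option autoImplicit false
set_option linter.unusedSectionVars false

namespace Cfsg.Agent.H454.PiBS

open Cfsg Subgroup
open Cfsg.Agent.H469.PiBS

/-- every π-subgroup lies in a Hall π-subgroup; `A` is transitive on the Hall π-subgroups; their number is a π'-number -/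
structure Cls (π : Set ℕ) {S : Type*} [Group S] (A : Subgroup (MulAut S)) : Prop where
  /-- every π-subgroup lies in a Hall π-subgroup -/
  dom : ∀ K : Subgroup S, IsPiSubgroup π K → ∃ H : Subgroup S, IsPiHall π H ∧ K ≤ H
  /-- `A` is transitive on the Hall π-subgroups -/
  trans : ∀ H H' : Subgroup S, IsPiHall π H → IsPiHall π H' → ∃ a ∈ A, H.map a.toMonoidHom = H'
  /-- the number of Hall π-subgroups is a π'-number -/
  cnt : ∀ r : ℕ, r.Prime → r ∈ π → ¬ r ∣ Nat.card {H : Subgroup S // IsPiHall π H}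

theorem Cls.exists_hall {π : Set ℕ} {S : Type*} [Group S] {A : Subgroup (MulAut S)} (h : Cls π A) :
    ∃ H : Subgroup S, IsPiHall π H := by
  obtain ⟨H, hH, -⟩ := h.dom ⊥ (by
    intro r hr hd
    rw [Subgroup.card_bot] at hd
    exact absurd (Nat.dvd_one.1 hd) hr.one_lt.ne')
  exact ⟨H, hH⟩

end Cfsg.Agent.H454.PiBS

/-- the hypotheses of S3876 contain `Cls` -/
theorem Cfsg.Agent.H469.PiBS.Hyp.cls {π : Set ℕ} {S : Type*} [Group S] {A : Subgroup (MulAut S)} {x : MulAut S} {l : ℕ}
    (h : Cfsg.Agent.H469.PiBS.Hyp π A x l) : Cfsg.Agent.H454.PiBS.Cls π A := ⟨h.dom, h.trans, h.cnt⟩
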