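import Cfsg.Agent.H454.PiBS.Const
import Cfsg.Agent.Tits.Rigid

/-!
# S3876 (TEAM PIBS), Lie type, own characteristic `p ∈ π`: which types occur

* `Res_pan`, `mem_Ty_of_not_fix`, `exists_type` : a π-group `Y` stabilising a panel of type `i` and fixing no chamber of it gives
  a Hall π-subgroup whose type contains `i`; `exists_fix_of_not_type` is the converse form;
* `exists_type_of_dvd` : a prime `r ∈ π` dividing the number of chambers of an `i`-panel does;
* `exists_type_odd` : `p` odd and `2 ∈ π`: every `i` lies in the type of some Hall π-subgroup;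
* `eq_top` : a subgroup of type `I` containing `U x` is the whole group;
* `top_of_odd` : `p` odd, `2 ∈ π` and all the primes dividing `|Aut M|` lie in `π`: then `G` is a π-group.
-/

set_option autoImplicit false
set_option linter.unusedSectionVars false

open scoped Pointwise

namespace Cfsg.Agent.H454.PiBS

open Cfsg Subgroup Cfsg.Agent.Tits.Core Cfsg.Agent.Tits.Core.Bldg Cfsg.Agent.Tits.Exchange Cfsg.Agent.Tits
open Cfsg.Agent.FixBN (Sys)
open Cfsg.Agent.FixOdd (Tw)
open Cfsg.Agent.H469.PiBS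

variable {I : Type*} {M : CoxeterMatrix I} {W : Type*} [Group W] {cs : CoxeterSystem M W} {C : Type*}

variable {Δ : Bldg cs C}

theorem mem_Res_single {i : I} {x y : C} : y ∈ Δ.Res {i} x ↔ y = x ∨ Δ.δ x y = cs.simple i := by
  rw [← Δ.Pan_eq_Res]
  rfl

variable {G : Type*} [Group G] [MulAction G C] {p : ℕ} (S : Sys Δ G p)

/-- two different chambers of an `i`-panel, one moved to the other by `H`: the type contains `i` -/
theorem mem_Ty_of_not_fix {H : Subgroup G} {i : I} {x z : C} (hz : z ∈ Δ.Res {i} x) {g : G} (hg : g ∈ H)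
    (hgz : g • z ∈ Δ.Res {i} x) (hne : g • z ≠ z) : i ∈ Ty Δ H z := by
  have h1 : g • z ∈ Δ.Res {i} z := by rwa [Δ.Res_eq_of_mem hz]
  rcases mem_Res_single.1 h1 with h | h
  · exact absurd h hne
  · exact ⟨g, hg, h⟩

variable [F : OppRes.Cox cs]

section hall

variable {π : Set ℕ} [Finite G] [hp : Fact p.Prime]

/-- **(b)** a π-group stabilising a panel of type `i` and fixing no chamber of it -/
theorem exists_type (hth : Δ.Thick)
    (hdom : ∀ K : Subgroup G, IsPiSubgroup π K → ∃ H : Subgroup G, IsPiHall π H ∧ K ≤ H) (hpi : p ∈ π)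
    {i : I} {x : C} {Y : Subgroup G} (hY : IsPiSubgroup π Y) (hst : ∀ g ∈ Y, g • Δ.Res {i} x = Δ.Res {i} x)
    (hnf : ∀ z ∈ Δ.Res {i} x, ∃ g ∈ Y, g • z ≠ z) :
    ∃ H : Subgroup G, IsPiHall π H ∧ Y ≤ H ∧ ∃ z ∈ Δ.Res {i} x, S.U z ≤ H ∧ i ∈ Ty Δ H z := by
  obtain ⟨H, hH, hYH, z, hz, hU⟩ := exists_hall_of_res S hth hdom hpi hY hst
  obtain ⟨g, hg, hne⟩ := hnf z hz
  refine ⟨H, hH, hYH, z, hz, hU, mem_Ty_of_not_fix hz (hYH hg) ?_ hne⟩
  rw [← hst g hg]
  exact Set.smul_mem_smul_set hz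

/-- **(c)** if `i` is in no type, every π-group stabilising a panel of type `i` fixes a chamber of it -/
theorem exists_fix_of_not_type (hth : Δ.Thick)
    (hdom : ∀ K : Subgroup G, IsPiSubgroup π K → ∃ H : Subgroup G, IsPiHall π H ∧ K ≤ H) (hpi : p ∈ π)
    {i : I} (hi : ∀ J ∈ TySet S π, i ∉ J) {x : C} {Y : Subgroup G} (hY : IsPiSubgroup π Y)
    (hst : ∀ g ∈ Y, g • Δ.Res {i} x = Δ.Res {i} x) : ∃ z ∈ Δ.Res {i} x, ∀ g ∈ Y, g • z = z := by
  by_contra hcon
  push Not at hcon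
  obtain ⟨H, hH, -, z, -, hU, hiT⟩ := exists_type S hth hdom hpi hY hst hcon
  exact hi _ (Ty_mem_TySet S hH hU) hiT

include S in
/-- the stabiliser of a panel is transitive on it -/
theorem orbit_panel (hth : Δ.Thick) (i : I) (x : C) :
    MulAction.orbit (MulAction.stabilizer G (Δ.Res {i} x)) x = Δ.Res {i} x := by
  have hst : ∀ {y : C}, y ∈ Δ.Res {i} x → ∀ u ∈ S.U y, u ∈ MulAction.stabilizer G (Δ.Res {i} x) := by
    intro y hy u hu
    rw [MulAction.mem_stabilizer_iff, ← Δ.Res_eq_of_mem hy, S.smul_Res, S.fix y u hu]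
  ext y
  constructor
  · rintro ⟨⟨g, hg⟩, rfl⟩
    rw [MulAction.mem_stabilizer_iff] at hg
    show g • x ∈ _
    rw [← hg]
    exact Set.smul_mem_smul_set (Δ.self_mem_Res _ x)
  · intro hy
    rcases mem_Res_single.1 hy with rfl | hxy
    · exact ⟨1, one_smul _ _⟩
    · obtain ⟨a, b, hab, ha, hb⟩ := hth x i
      obtain ⟨w, hxw, hwy⟩ : ∃ w, Δ.δ x w = cs.simple i ∧ w ≠ y := by
        by_cases h : a = y
        · exact ⟨b, hb, fun h' => hab (h.trans h'.symm)⟩
        · exact ⟨a, ha, h⟩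
      have hw : w ∈ Δ.Res {i} x := mem_Res_single.2 (Or.inr hxw)
      have h1 : Δ.δ w x = cs.simple i := by rw [Δ.symm, hxw, cs.inv_simple]
      have h2 : Δ.δ w y = cs.simple i := by
        have h3 : y ∈ Δ.Res {i} w := by rwa [Δ.Res_eq_of_mem hw]
        rcases mem_Res_single.1 h3 with h | h
        · exact absurd h.symm hwy
        · exact h
      obtain ⟨u, hu, hux⟩ := S.exists_move (h1.trans h2.symm)
      exact ⟨⟨u, hst hw u hu⟩, hux⟩

/-- **a prime `r ∈ π` dividing the number of chambers of an `i`-panel** -/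
theorem exists_type_of_dvd (hth : Δ.Thick)
    (hdom : ∀ K : Subgroup G, IsPiSubgroup π K → ∃ H : Subgroup G, IsPiHall π H ∧ K ≤ H) (hpi : p ∈ π)
    {i : I} {x : C} {r : ℕ} (hr : r.Prime) (hrpi : r ∈ π) (hd : r ∣ Nat.card (Δ.Res {i} x)) :
    ∃ H : Subgroup G, IsPiHall π H ∧ ∃ z ∈ Δ.Res {i} x, S.U z ≤ H ∧ i ∈ Ty Δ H z := by
  have : Fact r.Prime := ⟨hr⟩
  set N := MulAction.stabilizer G (Δ.Res {i} x) with hN
  let P : Sylow r N := default
  set Y : Subgroup G := (P : Subgroup N).map N.subtype with hY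
  have hYN : Y ≤ N := Subgroup.map_subtype_le _
  have hYp : IsPGroup r Y := P.2.map _
  have hYpi : IsPiSubgroup π Y := pi_of_pGroup hrpi hYp
  obtain ⟨H, hH, -, z, hz, h1, h2⟩ := exists_type S hth hdom hpi (i := i) (x := x) hYpi
    (fun g hg => MulAction.mem_stabilizer_iff.1 (hYN hg)) (by
      intro z hz
      by_contra hcon
      push Not at hcon
      have h1 : (P : Subgroup N) ≤ MulAction.stabilizer N z := by
        intro g hg
        rw [MulAction.mem_stabilizer_iff]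
        exact hcon g ⟨g, hg, rfl⟩
      have h2 : (MulAction.stabilizer N z).index = Nat.card (Δ.Res {i} x) := by
        have h3 : MulAction.orbit N z = Δ.Res {i} x := by
          have := orbit_panel S hth i z
          rwa [Δ.Res_eq_of_mem hz] at this
        rw [← h3]
        exact MulAction.index_stabilizer N z
      have h3 : r ∣ (P : Subgroup N).index := by
        refine hd.trans ?_
        rw [← h2]
        exact Subgroup.index_dvd_of_le h1
      exact P.not_dvd_index h3)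
  exact ⟨H, hH, z, hz, h1, h2⟩

include S in
/-- the number of chambers of a panel -/
theorem card_panel (hth : Δ.Thick) (i : I) (x : C) : ∃ n : ℕ, Nat.card (Δ.Res {i} x) = p ^ n + 1 := by
  obtain ⟨y, -, -, hy, -⟩ := hth x i
  have h1 : Δ.Res {i} x = insert x (MulAction.orbit (S.U x) y) := by
    ext z
    rw [mem_Res_single, Set.mem_insert_iff]
    refine or_congr Iff.rfl ⟨fun hz => ?_, ?_⟩
    · obtain ⟨u, hu, huz⟩ := S.exists_move (hy.trans hz.symm)
      exact ⟨⟨u, hu⟩, huz⟩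
    · rintro ⟨⟨u, hu⟩, rfl⟩
      show Δ.δ x (u • y) = _
      conv_lhs => rw [← S.fix x u hu]
      rw [S.iso, hy]
  have h2 : x ∉ MulAction.orbit (S.U x) y := by
    rintro ⟨⟨u, hu⟩, hux⟩
    have h3 : u • y = x := hux
    have h4 : y = x := by
      apply MulAction.injective u
      show u • y = u • x
      rw [h3, S.fix x u hu]
    rw [h4, (Δ.eq_one x x).2 rfl] at hy
    have h5 := cs.length_simple i
    rw [← hy, cs.length_one] at h5
    exact absurd h5 (by norm_num)
  have hfin : (MulAction.orbit (S.U x) y).Finite := Set.finite_range _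
  have : Finite (MulAction.orbit (S.U x) y) := hfin.to_subtype
  obtain ⟨n, hn⟩ := (S.isP x).card_orbit y
  refine ⟨n, ?_⟩
  rw [h1, Nat.card_coe_set_eq, Set.ncard_insert_of_notMem h2 hfin, ← Nat.card_coe_set_eq, hn]

/-- **`p` odd and `2 ∈ π`: every `i` occurs in a type** -/
theorem exists_type_odd (hth : Δ.Thick)
    (hdom : ∀ K : Subgroup G, IsPiSubgroup π K → ∃ H : Subgroup G, IsPiHall π H ∧ K ≤ H) (hpi : p ∈ π)
    (hp2 : p ≠ 2) (h2 : 2 ∈ π) (i : I) (x : C) :
    ∃ H : Subgroup G, IsPiHall π H ∧ ∃ z ∈ Δ.Res {i} x, S.U z ≤ H ∧ i ∈ Ty Δ H z := by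
  refine exists_type_of_dvd S hth hdom hpi Nat.prime_two h2 ?_
  obtain ⟨n, hn⟩ := card_panel S hth i x
  rw [hn]
  have h3 : Odd (p ^ n) := (hp.out.odd_of_ne_two hp2).pow
  exact (h3.add_one).two_dvd

end hall

/-- **a subgroup of type `I` is the whole group** -/
theorem eq_top (hgen : ∀ K : Subgroup G, (∀ y : C, S.U y ≤ K) → K = ⊤) {H : Subgroup G} {x : C} (hx : S.U x ≤ H)
    (hT : Ty Δ H x = Set.univ) : H = ⊤ :=
  hgen H (U_le_of_univ S hx hT)

omit F in
/-- a simple group is generated by the `U y` -/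
theorem gen_of_simple [IsSimpleGroup G] (hne : ∃ y : C, S.U y ≠ ⊥) (K : Subgroup G) (hK : ∀ y : C, S.U y ≤ K) :
    K = ⊤ := by
  set N : Subgroup G := ⨆ y : C, S.U y with hN
  have hNn : N.Normal := by
    refine ⟨fun n hn g => ?_⟩
    have h1 : N ≤ N.comap (MulAut.conj g).toMonoidHom := by
      refine iSup_le fun y u hu => ?_
      rw [Subgroup.mem_comap]
      exact (le_iSup (fun y : C => S.U y) (g • y)) (S.conj_mem_U hu g)
    exact h1 hn
  have h2 : N ≤ K := iSup_le hK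
  rcases hNn.eq_bot_or_eq_top with h | h
  · obtain ⟨y, hy⟩ := hne
    exact absurd (le_bot_iff.1 (h ▸ le_iSup (fun y : C => S.U y) y)) hy
  · exact top_le_iff.1 (h ▸ h2)

/-- the groups `U y` are not trivial -/
theorem U_ne_bot (hth : Δ.Thick) (i : I) (x : C) : S.U x ≠ ⊥ := by
  intro h
  obtain ⟨y, z, hyz, hy, hz⟩ := hth x i
  obtain ⟨u, hu, huz⟩ := S.exists_move (hy.trans hz.symm)
  rw [h, mem_bot] at hu
  rw [hu, one_smul] at huz
  exact hyz huz

/-- **The theorem for `p` odd.** -/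
theorem top_of_odd [Finite I] [Finite W] [Finite G] [hp : Fact p.Prime] (hth : Δ.Thick) {π : Set ℕ} (hpi : p ∈ π)
    (hgen : ∀ K : Subgroup G, (∀ y : C, S.U y ≤ K) → K = ⊤) (hC : Nonempty C)
    (hp2 : p ≠ 2) (h2 : 2 ∈ π) {A : Subgroup (MulAut G)} {a : MulAut G} {l : ℕ} (h : Hyp π A a l)
    (htw : ∀ a ∈ A, ∃ t : Tw Δ G, t.τ = a)
    (hD : ∀ r : ℕ, r.Prime → r ∣ Nat.card (autM M) → r ∈ π) : PiGrp π G := by
  obtain ⟨x⟩ := hC
  obtain ⟨J, hJ⟩ := const S hth hpi h htw hD
  have hJu : J = Set.univ := by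
    refine Set.eq_univ_of_forall fun i => ?_
    obtain ⟨H, hH, z, -, hU, hi⟩ := exists_type_odd S hth h.dom hpi hp2 h2 i x
    rw [← hJ H hH z hU]
    exact hi
  obtain ⟨H, hH⟩ := h.exists_hall
  obtain ⟨z, P, -, hz⟩ := exists_U_le S hH hpi (V := ⊥) IsPGroup.of_bot bot_le
  have hU : S.U z ≤ H := by rw [hz]; exact Subgroup.map_subtype_le _
  have htop : H = ⊤ := eq_top S hgen hU (by rw [hJ H hH z hU, hJu])
  intro q hq hd
  refine hH.1 q hq ?_
  rwa [htop, Subgroup.card_top]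

end Cfsg.Agent.H454.PiBS
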