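import Cfsg.Agent.H454.PiBS.Core

/-!
# S3876 (TEAM PIBS), Lie type, own characteristic `p ∈ π`: all Hall π-subgroups have the same type

`const` : if the primes dividing the order of the automorphism group of the Coxeter matrix lie in `π` then all Hall
π-subgroups have the same type.
-/

set_option autoImplicit false
set_option linter.unusedSectionVars false

open scoped Pointwise

namespace Cfsg.Agent.H454.PiBS

open Cfsg Subgroup Cfsg.Agent.Tits.Core Cfsg.Agent.Tits.Core.Bldg Cfsg.Agent.Tits.Exchange Cfsg.Agent.Tits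
open Cfsg.Agent.FixBN (Sys)
open Cfsg.Agent.FixOdd (Tw)
open Cfsg.Agent.H469.PiBS

/-- counting the values of an equivariant function on a transitive set -/
theorem card_range_dvd {Hs X D : Type*} [Finite Hs] [Nonempty Hs] [Group D] [Finite D] [MulAction D X] (T : Hs → X)
    (htr : ∀ H H' : Hs, ∃ (f : Hs ≃ Hs) (σ : D), f H = H' ∧ ∀ K, T (f K) = σ • T K) :
    Nat.card (Set.range T) ∣ Nat.card Hs ∧ Nat.card (Set.range T) ∣ Nat.card D := by
  classical
  obtain ⟨H₁⟩ : Nonempty Hs := inferInstance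
  constructor
  · have hfib : ∀ y : Set.range T, Nat.card {K // Set.rangeFactorization T K = y} =
        Nat.card {K // T K = T H₁} := by
      rintro ⟨_, H₂, rfl⟩
      obtain ⟨f, σ, hf, hσ⟩ := htr H₁ H₂
      symm
      refine Nat.card_congr (f.subtypeEquiv fun K => ?_)
      rw [← Subtype.coe_inj]
      show T K = T H₁ ↔ T (f K) = T H₂
      rw [← hf, hσ, hσ]
      exact (smul_left_cancel_iff σ).symm
    have : Fintype (Set.range T) := Fintype.ofFinite _
    rw [Nat.card_congr (Equiv.sigmaFiberEquiv (Set.rangeFactorization T)).symm, Nat.card_sigma,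
      Finset.sum_congr rfl (fun y _ => hfib y), Finset.sum_const, Finset.card_univ, smul_eq_mul,
      ← Nat.card_eq_fintype_card]
    exact dvd_mul_right _ _
  · set E : Subgroup D := MulAction.stabilizer D (Set.range T) with hE
    have hmem : ∀ {f : Hs ≃ Hs} {σ : D}, (∀ K, T (f K) = σ • T K) → σ ∈ E := by
      intro f σ hσ
      rw [hE, MulAction.mem_stabilizer_iff]
      ext y
      constructor
      · rintro ⟨_, ⟨K, rfl⟩, rfl⟩
        exact ⟨f K, hσ K⟩
      · rintro ⟨K, rfl⟩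
        refine ⟨T (f.symm K), ⟨_, rfl⟩, ?_⟩
        show σ • T (f.symm K) = T K
        rw [← hσ, f.apply_symm_apply]
    have horb : (MulAction.orbit E (T H₁)) = Set.range T := by
      ext y
      constructor
      · rintro ⟨⟨σ, hσ⟩, rfl⟩
        rw [hE, MulAction.mem_stabilizer_iff] at hσ
        show σ • T H₁ ∈ Set.range T
        rw [← hσ]
        exact Set.smul_mem_smul_set ⟨H₁, rfl⟩
      · rintro ⟨K, rfl⟩
        obtain ⟨f, σ, hf, hσ⟩ := htr H₁ K
        refine ⟨⟨σ, hmem hσ⟩, ?_⟩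
        show σ • T H₁ = T K
        rw [← hσ, hf]
    rw [← horb]
    refine Dvd.dvd.trans ?_ (Subgroup.card_subgroup_dvd_card E)
    rw [Nat.card_congr (MulAction.orbitEquivQuotientStabilizer E (T H₁))]
    exact Subgroup.card_quotient_dvd_card _

variable {I : Type*} {M : CoxeterMatrix I} {W : Type*} [Group W] {cs : CoxeterSystem M W} {C : Type*}

/-- the automorphisms of the Coxeter matrix -/
def autM {I : Type*} (M : CoxeterMatrix I) : Subgroup (Equiv.Perm I) where
  carrier := {σ | ∀ i j, M (σ i) (σ j) = M i j}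
  one_mem' := fun _ _ => rfl
  mul_mem' := fun {a b} ha hb i j => (ha (b i) (b j)).trans (hb i j)
  inv_mem' := fun {a} ha i j => by
    have h := ha (a.symm i) (a.symm j)
    rw [Equiv.apply_symm_apply, Equiv.apply_symm_apply] at h
    exact h.symm

variable {Δ : Bldg cs C} {G : Type*} [Group G] [MulAction G C] {p : ℕ}

/-- the permutation of the types is an automorphism of the Coxeter matrix -/
theorem tw_mem_autM [Finite I] [Finite W] (t : Tw Δ G) : t.σ ∈ autM M := by
  classical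
  have : Fintype I := Fintype.ofFinite I
  intro i j
  have h1 := LieRecognition.CoxForm.orderOf_eq cs i j
  have h2 := LieRecognition.CoxForm.orderOf_eq cs (t.σ i) (t.σ j)
  rw [← h1, ← h2, ← t.φ_simple, ← t.φ_simple, ← map_mul]
  exact MulEquiv.orderOf_eq t.φ _

variable (S : Sys Δ G p)

/-- the set of the types of the Hall π-subgroups -/
def TySet (S : Sys Δ G p) (π : Set ℕ) : Set (Set I) :=
  {J | ∃ H : Subgroup G, IsPiHall π H ∧ ∃ z : C, S.U z ≤ H ∧ Ty Δ H z = J}

theorem Ty_mem_TySet {π : Set ℕ} {H : Subgroup G} (hH : IsPiHall π H) {z : C} (hz : S.U z ≤ H) :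
    Ty Δ H z ∈ TySet S π := ⟨H, hH, z, hz, rfl⟩

/-- the set of types is stable under the automorphisms -/
theorem image_mem_TySet [Finite G] {π : Set ℕ} (t : Tw Δ G) {J : Set I} (hJ : J ∈ TySet S π) :
    t.σ '' J ∈ TySet S π := by
  obtain ⟨H, hH, z, hz, rfl⟩ := hJ
  exact ⟨H.map t.τ.toMonoidHom, isPiHall_map t.τ hH, t.θ z, U_map_le S t hz, Ty_map t H z⟩

theorem TySet_nonempty [Finite G] [hp : Fact p.Prime] {π : Set ℕ} (hpi : p ∈ π) {A : Subgroup (MulAut G)} {x : MulAut G}
    {l : ℕ} (h : Hyp π A x l) : (TySet S π).Nonempty := by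
  obtain ⟨H, hH⟩ := h.exists_hall
  obtain ⟨z, P, -, hz⟩ := exists_U_le S hH hpi (V := ⊥) IsPGroup.of_bot bot_le
  exact ⟨_, H, hH, z, by rw [hz]; exact Subgroup.map_subtype_le _, rfl⟩

variable [F : OppRes.Cox cs]

section TS

variable [Finite I] [Finite W] [Finite G] [hp : Fact p.Prime] (hth : Δ.Thick) {π : Set ℕ} (hpi : p ∈ π)
  {A : Subgroup (MulAut G)} {x : MulAut G} {l : ℕ} (h : Hyp π A x l)

include hth hpi h

omit [Finite I] [Finite W] in
/-- the set of types is an orbit -/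
theorem TySet_trans {J J' : Set I} (hJ : J ∈ TySet S π) (hJ' : J' ∈ TySet S π) :
    ∃ a ∈ A, ∀ t : Tw Δ G, t.τ = a → t.σ '' J = J' := by
  obtain ⟨H, hH, z, hz, rfl⟩ := hJ
  obtain ⟨H', hH', z', hz', rfl⟩ := hJ'
  obtain ⟨a, ha, haH⟩ := h.trans H H' hH hH'
  refine ⟨a, ha, fun t ht => ?_⟩
  rw [← Ty_map t H z]
  have e1 : H.map t.τ.toMonoidHom = H' := by rw [ht, haH]
  rw [e1]
  exact Ty_eq S hth hpi hH' (e1 ▸ U_map_le S t hz) hz'

/-- the number of types divides the number of Hall π-subgroups and the order of the group of the automorphisms of `M` -/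
theorem card_TySet_dvd (htw : ∀ a ∈ A, ∃ t : Tw Δ G, t.τ = a) :
    Nat.card (TySet S π) ∣ Nat.card {H : Subgroup G // IsPiHall π H} ∧
      Nat.card (TySet S π) ∣ Nat.card (autM M) := by
  classical
  have hex : ∀ H : {H : Subgroup G // IsPiHall π H}, ∃ z : C, S.U z ≤ H.1 := by
    intro H
    obtain ⟨z, P, -, hz⟩ := exists_U_le S H.2 hpi (V := ⊥) IsPGroup.of_bot bot_le
    exact ⟨z, by rw [hz]; exact Subgroup.map_subtype_le _⟩
  choose zz hzz using hex
  set T : {H : Subgroup G // IsPiHall π H} → Set I := fun H => Ty Δ H.1 (zz H) with hT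
  have hTe : ∀ (H : {H : Subgroup G // IsPiHall π H}) (z : C), S.U z ≤ H.1 → Ty Δ H.1 z = T H :=
    fun H z hz => Ty_eq S hth hpi H.2 hz (hzz H)
  have hrange : Set.range T = TySet S π := by
    ext J
    constructor
    · rintro ⟨H, rfl⟩
      exact ⟨H.1, H.2, zz H, hzz H, rfl⟩
    · rintro ⟨H, hH, z, hz, rfl⟩
      exact ⟨⟨H, hH⟩, (hTe ⟨H, hH⟩ z hz).symm⟩
  have hne : Nonempty {H : Subgroup G // IsPiHall π H} := by
    obtain ⟨H, hH⟩ := h.exists_hall
    exact ⟨⟨H, hH⟩⟩
  rw [← hrange]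
  refine card_range_dvd (D := autM M) T ?_
  intro H H'
  obtain ⟨a, ha, haH⟩ := h.trans H.1 H'.1 H.2 H'.2
  obtain ⟨t, ht⟩ := htw a ha
  let _ : MulAction (MulAut G) {H : Subgroup G // IsPiHall π H} := hallAct π G
  refine ⟨MulAction.toPerm a, ⟨t.σ, tw_mem_autM t⟩, Subtype.ext haH, fun K => ?_⟩
  have e1 : ((MulAction.toPerm a K : {H : Subgroup G // IsPiHall π H}) : Subgroup G) =
      K.1.map t.τ.toMonoidHom := by rw [ht]; rfl
  have e2 : S.U (t.θ (zz K)) ≤ (MulAction.toPerm a K : {H : Subgroup G // IsPiHall π H}).1 := by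
    rw [e1]; exact U_map_le S t (hzz K)
  rw [← hTe _ _ e2, e1, Ty_map t]
  rfl

/-- no prime of `π` divides the number of types -/
theorem not_dvd_card_TySet (htw : ∀ a ∈ A, ∃ t : Tw Δ G, t.τ = a) {r : ℕ} (hr : r.Prime) (hrpi : r ∈ π) :
    ¬ r ∣ Nat.card (TySet S π) := fun hd =>
  h.cnt r hr hrpi (hd.trans (card_TySet_dvd S hth hpi h htw).1)

/-- **All Hall π-subgroups have the same type.** -/
theorem const (htw : ∀ a ∈ A, ∃ t : Tw Δ G, t.τ = a)
    (hD : ∀ r : ℕ, r.Prime → r ∣ Nat.card (autM M) → r ∈ π) :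
    ∃ J : Set I, ∀ H : Subgroup G, IsPiHall π H → ∀ z : C, S.U z ≤ H → Ty Δ H z = J := by
  have h2 := card_TySet_dvd S hth hpi h htw
  have h3 : Nat.card (TySet S π) = 1 := by
    by_contra hne1
    obtain ⟨r, hr, hrd⟩ := Nat.exists_prime_and_dvd hne1
    exact not_dvd_card_TySet S hth hpi h htw hr (hD r hr (hrd.trans h2.2)) hrd
  obtain ⟨J, hJ⟩ := TySet_nonempty S hpi h
  refine ⟨J, fun H hH z hz => ?_⟩
  have h4 := (Nat.card_eq_one_iff_unique.1 h3).1
  exact congrArg Subtype.val (@Subsingleton.elim _ h4 (⟨_, Ty_mem_TySet S hH hz⟩ : TySet S π) ⟨J, hJ⟩)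

end TS

end Cfsg.Agent.H454.PiBS
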