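import Cfsg.Agent.H454.PiBS.Fix
import Cfsg.Agent.H519.Bld

/-!
# S3876 (TEAM PIBS), Lie type, own characteristic `p ∈ π`: Hall subgroups and their types

`G` acts on the building `Δ` with the system `S : Sys Δ G p`, `p ∈ π`, every π-subgroup lies in a Hall π-subgroup.
* `exists_U_le` : a Hall π-subgroup contains some `U z`, and every `p`-subgroup of it lies in such a `U z`;
* `exists_hall_of_res` : a π-group `Y` stabilising a residue lies in a Hall π-subgroup which contains `U z` for a chamber `z`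
  of this residue;
* `Ty Δ H x` : the type of `H` (if `U x ≤ H`): the `s` such that some `h ∈ H` maps `x` to an `s`-adjacent chamber;
* `Res_subset_orbit`, `U_le_of_univ`, `Ty_eq`, `Ty_map`.
-/

set_option autoImplicit false
set_option linter.unusedSectionVars false

open scoped Pointwise

namespace Cfsg.Agent.H454.PiBS

open Cfsg Subgroup Cfsg.Agent.Tits.Core Cfsg.Agent.Tits.Core.Bldg Cfsg.Agent.Tits.Exchange Cfsg.Agent.Tits
open Cfsg.Agent.FixBN (Sys)
open Cfsg.Agent.FixOdd (Tw)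

section pi

variable {π : Set ℕ} {G : Type*} [Group G]

theorem pi_of_pGroup [Finite G] {p : ℕ} [hp : Fact p.Prime] (hpi : p ∈ π) {P : Subgroup G} (hP : IsPGroup p P) :
    IsPiSubgroup π P := by
  obtain ⟨n, hn⟩ := IsPGroup.iff_card.1 hP
  intro q hq hd
  rw [hn] at hd
  rwa [(Nat.prime_dvd_prime_iff_eq hq hp.out).1 (hq.dvd_of_dvd_pow hd)]

theorem pi_sup [Finite G] {P Y : Subgroup G} (hPY : P ≤ normalizer (Y : Set G)) (hP : IsPiSubgroup π P)
    (hY : IsPiSubgroup π Y) : IsPiSubgroup π (P ⊔ Y) := by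
  set M := P ⊔ Y with hM
  have hYM : Y ≤ M := le_sup_right
  have hn : (Y.subgroupOf M).Normal :=
    (normal_subgroupOf_iff_le_normalizer hYM).mpr (sup_le hPY le_normalizer)
  have h1 : P.subgroupOf M ⊔ Y.subgroupOf M = ⊤ := by
    rw [← Subgroup.subgroupOf_sup le_sup_left hYM]
    exact Subgroup.subgroupOf_self _
  have h2 := relIndex_sup_right (P.subgroupOf M) (Y.subgroupOf M)
  rw [h1, relIndex_top_right] at h2
  have h3 : Nat.card M = Nat.card Y * (Y.subgroupOf M).index := by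
    rw [← Nat.card_congr (subgroupOfEquivOfLe hYM).toEquiv, card_mul_index]
  intro q hq hd
  rw [h3, h2] at hd
  rcases (hq.dvd_mul).1 hd with h4 | h4
  · exact hY q hq h4
  · refine hP q hq (h4.trans ?_)
    refine (Subgroup.relIndex_dvd_card _ _).trans ?_
    rw [Nat.card_congr (subgroupOfEquivOfLe (show P ≤ M from le_sup_left)).toEquiv]

end pi

variable {I : Type*} {M : CoxeterMatrix I} {W : Type*} [Group W] {cs : CoxeterSystem M W} {C : Type*}

local prefix:100 "ℓ" => cs.length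

variable {Δ : Bldg cs C} {G : Type*} [Group G] [MulAction G C] {p : ℕ}

/-- the type of a subgroup `H` with respect to the chamber `x` -/
def Ty (Δ : Bldg cs C) {G : Type*} [Group G] [MulAction G C] (H : Subgroup G) (x : C) : Set I :=
  {s | ∃ h ∈ H, Δ.δ x (h • x) = cs.simple s}

variable (S : Sys Δ G p) [F : OppRes.Cox cs]

section hall

variable {π : Set ℕ} [Finite G] [hp : Fact p.Prime]

omit F in
/-- a `p`-subgroup of a Hall π-subgroup `H` lies in some `U z ≤ H` -/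
theorem exists_U_le {H : Subgroup G} (hH : IsPiHall π H) (hpi : p ∈ π) {V : Subgroup G} (hV : IsPGroup p V)
    (hVH : V ≤ H) : ∃ (z : C) (P : Sylow p H), V ≤ S.U z ∧ S.U z = (P : Subgroup H).map H.subtype := by
  have h1 : IsPGroup p (V.subgroupOf H) := hV.comap_subtype
  obtain ⟨P, hP⟩ := h1.exists_le_sylow
  set P' := (P : Subgroup H).map H.subtype with hP'
  have hPp : IsPGroup p P' := P.2.map _
  obtain ⟨z, hz⟩ := S.exists_fix P' hPp
  have hle : P' ≤ S.U z := S.max z P' hPp hz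
  have hVP : V ≤ P' := by
    intro v hv
    exact ⟨⟨v, hVH hv⟩, hP (mem_subgroupOf.2 hv), rfl⟩
  refine ⟨z, P, hVP.trans hle, (Subgroup.eq_of_le_of_card_ge hle ?_).symm⟩
  obtain ⟨n, hn⟩ := IsPGroup.iff_card.1 (S.isP z)
  have hd : p ^ n ∣ Nat.card H := by
    have h2 : p ^ n ∣ Nat.card H * H.index := by
      rw [H.card_mul_index, ← hn]
      exact Subgroup.card_subgroup_dvd_card _
    exact (Nat.Coprime.pow_left n ((Nat.Prime.coprime_iff_not_dvd hp.out).2 (hH.2 p hp.out hpi))).dvd_of_dvd_mul_right h2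
  rw [hn, hP', Subgroup.card_map_of_injective (f := H.subtype) H.subtype_injective, P.card_eq_multiplicity]
  exact Nat.pow_le_pow_right hp.out.pos ((hp.out.pow_dvd_iff_le_factorization Nat.card_pos.ne').1 hd)

/-- **A π-group stabilising a residue lies in a Hall π-subgroup containing `U z`, `z` in the residue.** -/
theorem exists_hall_of_res (hth : Δ.Thick)
    (hdom : ∀ K : Subgroup G, IsPiSubgroup π K → ∃ H : Subgroup G, IsPiHall π H ∧ K ≤ H) (hpi : p ∈ π)
    {J : Set I} {x : C} {Y : Subgroup G} (hY : IsPiSubgroup π Y) (hst : ∀ g ∈ Y, g • Δ.Res J x = Δ.Res J x) :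
    ∃ H : Subgroup G, IsPiHall π H ∧ Y ≤ H ∧ ∃ z ∈ Δ.Res J x, S.U z ≤ H := by
  have hVp : IsPGroup p (S.UR (Δ.Res J x)) := S.UR_isP ⟨x, Δ.self_mem_Res J x⟩
  have hnor : Y ≤ normalizer (S.UR (Δ.Res J x) : Set G) := by
    intro g hg
    rw [mem_normalizer_iff]
    intro u
    have h1 := S.conj_mem_UR_iff (Q := Δ.Res J x) (u := u) (g := g)
    rw [hst g hg] at h1
    exact h1.symm
  obtain ⟨H, hH, hle⟩ := hdom _ (pi_sup hnor hY (pi_of_pGroup hpi hVp))
  obtain ⟨z, P, hz, hz'⟩ := exists_U_le S hH hpi hVp (le_sup_right.trans hle)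
  refine ⟨H, hH, le_sup_left.trans hle, z, mem_Res_of_fix S hth fun u hu => S.fix z u (hz hu), ?_⟩
  rw [hz']
  exact Subgroup.map_subtype_le _

end hall

/-- `H` is transitive on the residue of its type -/
theorem exists_smul_of_mem_Res {H : Subgroup G} {x : C} (hx : S.U x ≤ H) {y : C} (hy : y ∈ Δ.Res (Ty Δ H x) x) :
    ∃ h ∈ H, h • x = y := by
  refine Δ.Res_induction (J := Ty Δ H x) (p := fun y => ∃ h ∈ H, h • x = y) ⟨1, one_mem _, one_smul _ _⟩ ?_ hy
  rintro y - z i ⟨k, hk, hki⟩ hyz ⟨h, hh, rfl⟩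
  have h1 : Δ.δ x (h⁻¹ • z) = cs.simple i := by
    rw [← hyz, ← S.iso h, smul_inv_smul]
  obtain ⟨u, hu, huz⟩ := S.exists_move (hki.trans h1.symm)
  refine ⟨h * u * k, mul_mem (mul_mem hh (hx hu)) hk, ?_⟩
  rw [mul_smul, mul_smul, huz, smul_inv_smul]

/-- if `H` has type `I` then it contains all the groups `U y` -/
theorem U_le_of_univ {H : Subgroup G} {x : C} (hx : S.U x ≤ H) (hT : Ty Δ H x = Set.univ) (y : C) : S.U y ≤ H := by
  obtain ⟨h, hh, rfl⟩ := exists_smul_of_mem_Res S hx (y := y) (by rw [hT, Δ.Res_univ]; trivial)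
  intro u hu
  have h1 := S.conj_mem_U hu h⁻¹
  rw [inv_smul_smul] at h1
  have h2 := mul_mem (mul_mem hh (hx h1)) (inv_mem hh)
  have h3 : h * (h⁻¹ * u * h⁻¹⁻¹) * h⁻¹ = u := by group
  rwa [h3] at h2

omit F in
include S in
theorem Ty_smul {H : Subgroup G} {x : C} {h : G} (hh : h ∈ H) : Ty Δ H (h • x) = Ty Δ H x := by
  have key : ∀ {h : G}, h ∈ H → ∀ {x : C}, Ty Δ H x ⊆ Ty Δ H (h • x) := by
    rintro h hh x s ⟨k, hk, hks⟩
    refine ⟨h * k * h⁻¹, mul_mem (mul_mem hh hk) (inv_mem hh), ?_⟩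
    rw [mul_smul, inv_smul_smul, mul_smul, S.iso, hks]
  refine Set.Subset.antisymm ?_ (key hh)
  have h1 := key (inv_mem hh) (x := h • x)
  rwa [inv_smul_smul] at h1

/-- **the type of a Hall π-subgroup does not depend on the chamber** -/
theorem Ty_eq [Finite G] [hp : Fact p.Prime] (hth : Δ.Thick) {π : Set ℕ} (hpi : p ∈ π) {H : Subgroup G}
    (hH : IsPiHall π H) {x z : C} (hx : S.U x ≤ H) (hz : S.U z ≤ H) : Ty Δ H x = Ty Δ H z := by
  obtain ⟨x', P, hx1, hx2⟩ := exists_U_le S hH hpi (S.isP x) hx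
  obtain ⟨z', Q, hz1, hz2⟩ := exists_U_le S hH hpi (S.isP z) hz
  obtain rfl := eq_of_U_le S hth hx1
  obtain rfl := eq_of_U_le S hth hz1
  obtain ⟨h, hh⟩ := MulAction.exists_smul_eq H P Q
  have h1 : S.U z ≤ S.U ((h : G) • x) := by
    intro u hu
    rw [hz2, ← hh] at hu
    obtain ⟨v, hv, rfl⟩ := hu
    have hv' : v ∈ ((h • P : Sylow p H) : Subgroup H) := hv
    rw [Sylow.coe_subgroup_smul] at hv'
    rw [Subgroup.mem_pointwise_smul_iff_inv_smul_mem] at hv'
    have h3 : ((h⁻¹ * v * h : H) : G) ∈ S.U x := by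
      rw [hx2]
      refine ⟨h⁻¹ * v * h, ?_, rfl⟩
      have h4 : (MulAut.conj h)⁻¹ • v = h⁻¹ * v * h := by
        rw [← map_inv, MulAut.smul_def, MulAut.conj_apply, inv_inv]
      rwa [h4] at hv'
    have h5 := S.conj_mem_U h3 (h : G)
    have h6 : (h : G) * ((h⁻¹ * v * h : H) : G) * (h : G)⁻¹ = (v : G) := by
      push_cast
      group
    rwa [h6] at h5
  rw [eq_of_U_le S hth h1, Ty_smul S h.2]

omit F in
/-- the type of the image under an automorphism -/
theorem Ty_map (t : Tw Δ G) (H : Subgroup G) (x : C) :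
    Ty Δ (H.map t.τ.toMonoidHom) (t.θ x) = t.σ '' Ty Δ H x := by
  ext s
  constructor
  · rintro ⟨_, ⟨h, hh, rfl⟩, hs⟩
    have h1 : Δ.δ (t.θ x) (t.τ h • t.θ x) = cs.simple s := hs
    rw [← t.θ_smul, t.δ_θ] at h1
    refine ⟨t.σ.symm s, ⟨h, hh, ?_⟩, t.σ.apply_symm_apply s⟩
    apply t.φ.injective
    rw [h1, t.φ_simple, t.σ.apply_symm_apply]
  · rintro ⟨s, ⟨h, hh, hs⟩, rfl⟩
    refine ⟨t.τ h, ⟨h, hh, rfl⟩, ?_⟩
    rw [← t.θ_smul, t.δ_θ, hs, t.φ_simple]

omit F in
theorem U_map_le (t : Tw Δ G) {H : Subgroup G} {x : C} (hx : S.U x ≤ H) :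
    S.U (t.θ x) ≤ H.map t.τ.toMonoidHom := by
  -- `θ` is a bijection and `τ⁻¹` maps `U (θ x)` into the stabiliser of `x`
  have h1 : (S.U (t.θ x)).map t.τ.symm.toMonoidHom ≤ S.U x := by
    apply S.max _ _ ((S.isP _).map _)
    rintro _ ⟨v, hv, rfl⟩
    change t.τ.symm v • x = x
    apply t.θ.injective
    rw [t.θ_smul, MulEquiv.apply_symm_apply, S.fix _ v hv]
  intro u hu
  exact ⟨t.τ.symm u, hx (h1 ⟨u, hu, rfl⟩), t.τ.apply_symm_apply u⟩

end Cfsg.Agent.H454.PiBS
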