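import Cfsg.Agent.FixOdd.Radical
import Cfsg.Agent.H469.PiBS.Def

/-!
# S3876 (TEAM PIBS), Lie type, own characteristic: the chambers fixed by the unipotent radical of a residue

`mem_Res_of_fix` : a chamber fixed by `UR (Res J x)` lies in `Res J x`.
-/

set_option autoImplicit false
set_option linter.unusedSectionVars false

open scoped Pointwise

namespace Cfsg.Agent.H454.PiBS

open Cfsg.Agent.Tits.Core Cfsg.Agent.Tits.Core.Bldg Cfsg.Agent.Tits.Exchange Cfsg.Agent.Tits
open Cfsg.Agent.FixBN (Sys)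

variable {I : Type*} {M : CoxeterMatrix I} {W : Type*} [Group W] {cs : CoxeterSystem M W} {C : Type*}

local prefix:100 "ℓ" => cs.length

variable {Δ : Bldg cs C}

/-- a chamber opposite `x`, with prescribed projections to `Res J x` and to the `i`-panel of `x`, `i ∉ J` -/
theorem exists_opp_proj [F : OppRes.Cox cs] {J : Set I} {i : I} (hi : i ∉ J) {x x' x₁ : C}
    (hx' : Δ.δ x x' = wJ cs J) (hx₁ : Δ.δ x x₁ = cs.simple i) :
    ∃ y, Δ.Opp x y ∧ Δ.δ x' y = wJ cs J * w0 cs ∧ Δ.δ x₁ y = cs.simple i * w0 cs := by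
  obtain ⟨a, ha⟩ : ∃ a, a = wJ cs J := ⟨_, rfl⟩
  obtain ⟨w, hw⟩ : ∃ w, w = w0 cs := ⟨_, rfl⟩
  have haa : a * a = 1 := by rw [ha]; exact F.wJ_mul_self J
  have hww : w * w = 1 := by rw [hw]; exact F.w0_mul_self
  have hss : cs.simple i * cs.simple i = 1 := cs.simple_mul_simple_self i
  have hlw : ∀ v, ℓ (v * w) + ℓ v = ℓ w := fun v => by rw [hw]; exact F.len_mul_w0 v
  have hlc : ∀ v, ℓ (w * v * w) = ℓ v := fun v => by rw [hw]; exact F.len_conj_w0 v
  rw [← ha] at hx'
  rw [← ha, ← hw]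
  have h1 : ℓ (a * cs.simple i) = ℓ a + 1 := by
    rcases cs.length_mul_simple a i with h | h
    · exact h
    · exfalso
      apply hi
      refine F.descent_mem J a (by rw [ha]; exact F.wJ_mem J) i ?_
      omega
  have h2 : ℓ (cs.simple i * a) = ℓ a + 1 := by
    rw [← h1, ← cs.length_inv (a * cs.simple i), mul_inv_rev, cs.inv_simple, ha, F.wJ_inv]
  have h3 := hlw (cs.simple i * a)
  have h4 := hlw a
  have h5 := hlw (cs.simple i)
  rw [cs.length_simple] at h5
  have h6 := hlc a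
  have hx'x : Δ.δ x' x = a := by rw [Δ.symm x x', hx', ha, F.wJ_inv]
  have hx'x₁ : Δ.δ x' x₁ = a * cs.simple i := by
    rw [← hx'x]
    refine Δ.step_lt x' x x₁ i hx₁ ?_
    rw [hx'x, h1]
    omega
  obtain ⟨y₁, hy₁⟩ := Δ.exists_δ x₁ (cs.simple i * a * w)
  have hx'y₁ : Δ.δ x' y₁ = a * w * (w * a * w) := by
    rw [Δ.δ_mul_of hx'x₁ hy₁]
    · calc a * cs.simple i * (cs.simple i * a * w) = a * (cs.simple i * cs.simple i) * a * w := by group
        _ = a * w * (w * a * w) := by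
          rw [hss, mul_one, haa, one_mul]
          calc w = (a * a) * w := by rw [haa, one_mul]
            _ = a * (w * w) * a * w := by rw [hww, mul_one]
            _ = _ := by group
    · have e : a * cs.simple i * (cs.simple i * a * w) = w := by
        calc a * cs.simple i * (cs.simple i * a * w) = a * (cs.simple i * cs.simple i) * a * w := by group
          _ = w := by rw [hss, mul_one, haa, one_mul]
      rw [e]
      omega
  have hxy₁ : Δ.δ x y₁ = a * w := by
    rw [Δ.δ_mul_of hx₁ hy₁]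
    · calc cs.simple i * (cs.simple i * a * w) = (cs.simple i * cs.simple i) * (a * w) := by group
        _ = _ := by rw [hss, one_mul]
    · have e : cs.simple i * (cs.simple i * a * w) = a * w := by
        calc cs.simple i * (cs.simple i * a * w) = (cs.simple i * cs.simple i) * (a * w) := by group
          _ = _ := by rw [hss, one_mul]
      rw [e, cs.length_simple]
      omega
  have e1 : a * w * (w * a * w) = w := by
    calc a * w * (w * a * w) = a * (w * w) * a * w := by group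
      _ = w := by rw [hww, mul_one, haa, one_mul]
  obtain ⟨y, hy, hyy₁⟩ := Δ.exists_between hx'y₁ (by rw [e1]; omega)
  have hy₁y : Δ.δ y₁ y = w * a * w := by
    rw [Δ.symm y y₁, hyy₁]
    have ea : a⁻¹ = a := inv_eq_of_mul_eq_one_left haa
    have ew : w⁻¹ = w := inv_eq_of_mul_eq_one_left hww
    rw [mul_inv_rev, mul_inv_rev, ea, ew, mul_assoc]
  refine ⟨y, ?_, hy, ?_⟩
  · show Δ.δ x y = w0 cs
    rw [← hw, Δ.δ_mul_of hxy₁ hy₁y (by rw [e1]; omega), e1]
  · have e2 : cs.simple i * a * w * (w * a * w) = cs.simple i * w := by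
      calc cs.simple i * a * w * (w * a * w) = cs.simple i * a * (w * w) * a * w := by group
        _ = cs.simple i * (a * a) * w := by rw [hww]; group
        _ = _ := by rw [haa, mul_one]
    rw [Δ.δ_mul_of hy₁ hy₁y (by rw [e2]; omega), e2]

variable {G : Type*} [Group G] [MulAction G C] {p : ℕ} (S : Sys Δ G p) [F : OppRes.Cox cs]

include S

/-- the radical of `Res J x` moves the chambers of the `i`-panel of `x`, `i ∉ J` -/
theorem exists_UR_move (hth : Δ.Thick) {J : Set I} {i : I} (hi : i ∉ J) {x x₁ x₂ : C}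
    (hx₁ : Δ.δ x x₁ = cs.simple i) (hx₂ : Δ.δ x x₂ = cs.simple i) :
    ∃ u ∈ S.UR (Δ.Res J x), u • x₁ = x₂ := by
  obtain ⟨x', hx'⟩ := Δ.exists_δ x (wJ cs J)
  obtain ⟨y, hy, hy', hy₁⟩ := exists_opp_proj hi hx' hx₁
  obtain ⟨z, hz, hz', hz₂⟩ := exists_opp_proj hi hx' hx₂
  obtain ⟨u, hu, huy⟩ := S.trans x y z hy hz
  have hux := S.fix x u hu
  have h4 := F.len_mul_w0 (wJ cs J)
  have h5 := F.len_mul_w0 (cs.simple i)
  rw [cs.length_simple] at h5
  have e1 : wJ cs J * (wJ cs J * w0 cs) = w0 cs := by rw [← mul_assoc, F.wJ_mul_self, one_mul]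
  have e2 : cs.simple i * (cs.simple i * w0 cs) = w0 cs := by
    rw [← mul_assoc, cs.simple_mul_simple_self, one_mul]
  have hux' : u • x' = x' := by
    refine Δ.between_unique (x := x) (z := z) (v := wJ cs J) (w := wJ cs J * w0 cs) (by rw [e1]; omega) ?_ ?_ hx' hz'
    · rw [← hx', ← S.iso u x x', hux]
    · rw [← hy', ← S.iso u x' y, huy]
  have hux₁ : u • x₁ = x₂ := by
    refine Δ.between_unique (x := x) (z := z) (v := cs.simple i) (w := cs.simple i * w0 cs)
      (by rw [e2, cs.length_simple]; omega) ?_ ?_ hx₂ hz₂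
    · rw [← hx₁, ← S.iso u x x₁, hux]
    · rw [← hy₁, ← S.iso u x₁ y, huy]
  exact ⟨u, S.mem_UR_of_fix hth hu hx' hux', hux₁⟩

/-- **A chamber fixed by the unipotent radical of a residue lies in the residue.** -/
theorem mem_Res_of_fix (hth : Δ.Thick) {J : Set I} {x z : C} (h : ∀ u ∈ S.UR (Δ.Res J x), u • z = z) :
    z ∈ Δ.Res J x := by
  -- the projection of `z`
  obtain ⟨b, hb, v, hvb, hv⟩ := exists_isMinL cs J (Δ.δ x z)
  obtain ⟨x', hx', hx'z⟩ := Δ.exists_between hvb (hv b hb)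
  have hmem : x' ∈ Δ.Res J x := by rw [mem_Res, hx']; exact hb
  have hRes : Δ.Res J x' = Δ.Res J x := Δ.Res_eq_of_mem hmem
  by_cases hv1 : v = 1
  · rw [hv1] at hx'z
    rw [← Δ.eq_of_δ_eq_one hx'z]
    exact hmem
  exfalso
  obtain ⟨i, hi⟩ := cs.exists_leftDescent_of_ne_one hv1
  have hi' : ℓ (cs.simple i * v) < ℓ v := hi
  have hiJ : i ∉ J := by
    intro hij
    have := (isMinL_iff cs).1 hv i hij
    omega
  obtain ⟨x₁, hx₁, hx₁z⟩ := FixBN.exists_first Δ (x := x') (y := z) (i := i) (by rw [hx'z]; exact hi')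
  have hfix : ∀ u ∈ S.UR (Δ.Res J x), u • x₁ = x₁ := by
    intro u hu
    refine S.conv_fix (S.UR (Δ.Res J x)) x' (fun v hv => S.fix x' v (hv x' hmem)) z h x₁ i hx₁ hx₁z ?_ u hu
    rw [hx'z]; exact hi'
  obtain ⟨x₂, e, hne, hx₂, he⟩ := hth x' i
  obtain ⟨u, hu, hux⟩ := exists_UR_move S hth hiJ hx₁ hx₂
  obtain ⟨u', hu', hux'⟩ := exists_UR_move S hth hiJ hx₁ he
  rw [hRes] at hu hu'
  rw [hfix u hu] at hux
  rw [hfix u' hu'] at hux'
  exact hne (hux.symm.trans hux')

/-- the chamber is determined by its group -/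
theorem eq_of_U_le (hth : Δ.Thick) {x z : C} (h : S.U x ≤ S.U z) : x = z := by
  have h1 : z ∈ Δ.Res ∅ x := by
    refine mem_Res_of_fix S hth fun u hu => S.fix z u (h (hu x ?_))
    rw [Δ.Res_empty]; rfl
  rw [Δ.Res_empty] at h1
  exact h1.symm

end Cfsg.Agent.H454.PiBS
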